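import Groth.Agent.DiagTor.Rings
import Groth.Agent.S2428
import Mathlib

/-!
Reduction to the diagonal for local intersection multiplicities.
-/

set_option autoImplicit false
set_option linter.style.haveILetI false
set_option backward.isDefEq.respectTransparency false

universe u

open CategoryTheory TensorProduct

namespace Groth.Agent.DiagTor

theorem length_tor_congr {A : Type u} [CommRing A] {M M' N N' : Type u} [AddCommGroup M] [Module A M]
    [AddCommGroup M'] [Module A M'] [AddCommGroup N] [Module A N] [AddCommGroup N'] [Module A N']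
    (e₁ : M ≃ₗ[A] M') (e₂ : N ≃ₗ[A] N') (i : ℕ) :
    Module.length A (DRing.Tor A i M N) = Module.length A (DRing.Tor A i M' N') :=
  (((CategoryTheory.Tor (ModuleCat.{u} A) i).mapIso e₁.toModuleIso).app (ModuleCat.of A N)).toLinearEquiv.length_eq.trans
    (((CategoryTheory.Tor (ModuleCat.{u} A) i).obj (ModuleCat.of A M')).mapIso e₂.toModuleIso).toLinearEquiv.length_eq

section Transfer

variable {T R : Type u} [CommRing T] [CommRing R] [Algebra T R] (p : Ideal R) [p.IsPrime]
  (A B : Type u) [CommRing A] [CommRing B] [Algebra R A] [Algebra T A] [IsScalarTower T R A] [Algebra T B]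
  [IsLocalization.AtPrime A p] [IsLocalization.AtPrime B (p.comap (algebraMap T R))]

include p

theorem length_transfer (hsurj : Function.Surjective (algebraMap T R)) {X Y : Type u} [AddCommGroup X] [Module T X]
    [AddCommGroup Y] [Module R Y] (ψ : X →ₛₗ[algebraMap T R] Y) (hψ : Function.Bijective ψ) :
    Module.length B (B ⊗[T] X) = Module.length A (A ⊗[R] Y) := by
  set 𝔓 := p.comap (algebraMap T R) with h𝔓
  let g : X →ₗ[T] A ⊗[R] Y :=
    { toFun := fun x => (1 : A) ⊗ₜ ψ x
      map_add' := fun a b => by rw [map_add, TensorProduct.tmul_add]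
      map_smul' := fun t x => by
        rw [RingHom.id_apply, map_smulₛₗ, TensorProduct.tmul_smul, TensorProduct.smul_tmul', TensorProduct.smul_tmul',
          algebraMap_smul R t (1 : A)] }
  haveI hg0 : IsLocalizedModule p.primeCompl (TensorProduct.mk R A Y 1) :=
    (isLocalizedModule_iff_isBaseChange p.primeCompl A _).2 (TensorProduct.isBaseChange R Y A)
  haveI hg : IsLocalizedModule 𝔓.primeCompl g := by
    refine ⟨fun s => ?_, fun y => ?_, fun {x₁ x₂} h => ?_⟩
    · have h1 := (Module.End.isUnit_iff _).1 (hg0.map_units ⟨algebraMap T R (s : T), fun h => s.2 h⟩)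
      refine (Module.End.isUnit_iff _).2 ?_
      have he : ∀ z : A ⊗[R] Y, (s : T) • z = algebraMap T R (s : T) • z := fun z => (algebraMap_smul R _ z).symm
      constructor
      · intro a b hab
        exact h1.1 (show algebraMap T R (s : T) • a = algebraMap T R (s : T) • b by rw [← he, ← he]; exact hab)
      · intro z
        obtain ⟨w, hw⟩ := h1.2 z
        exact ⟨w, (he w).trans hw⟩
    · obtain ⟨⟨y', s⟩, hys⟩ := hg0.surj y
      obtain ⟨s', hs'⟩ := hsurj (s : R)
      obtain ⟨x, hx⟩ := hψ.2 y'
      refine ⟨(x, ⟨s', fun h => s.2 (by rw [← hs']; exact h)⟩), ?_⟩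
      show s' • y = (1 : A) ⊗ₜ ψ x
      rw [← algebraMap_smul R s' y, hs', hx]
      exact hys
    · obtain ⟨s, hs⟩ := hg0.exists_of_eq (x₁ := ψ x₁) (x₂ := ψ x₂) h
      obtain ⟨s', hs'⟩ := hsurj (s : R)
      refine ⟨⟨s', fun h => s.2 (by rw [← hs']; exact h)⟩, hψ.1 ?_⟩
      show ψ (s' • x₁) = ψ (s' • x₂)
      rw [map_smulₛₗ, map_smulₛₗ, hs']
      exact hs
  have hu : ∀ y : 𝔓.primeCompl, IsUnit (algebraMap T A y) := fun y => by
    rw [IsScalarTower.algebraMap_apply T R A]
    exact IsLocalization.map_units A (M := p.primeCompl) ⟨_, fun h => y.2 h⟩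
  letI : Algebra B A := (IsLocalization.lift hu).toAlgebra
  haveI : IsScalarTower T B A := IsScalarTower.of_algebraMap_eq fun t => (IsLocalization.lift_eq hu t).symm
  haveI : SMulCommClass R B A := ⟨fun r b a => by simp only [Algebra.smul_def]; ring⟩
  have hBA : Function.Surjective (algebraMap B A) := fun a => by
    obtain ⟨r, s, rfl⟩ := IsLocalization.exists_mk'_eq p.primeCompl a
    obtain ⟨t, ht⟩ := hsurj r
    obtain ⟨u, hu'⟩ := hsurj (s : R)
    let u' : 𝔓.primeCompl := ⟨u, fun h => s.2 (by rw [← hu']; exact h)⟩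
    refine ⟨IsLocalization.mk' B t u', ?_⟩
    show IsLocalization.lift hu _ = _
    rw [IsLocalization.lift_mk'_spec, IsScalarTower.algebraMap_apply T R A, IsScalarTower.algebraMap_apply T R A, ht]
    show algebraMap R A r = algebraMap R A (algebraMap T R u) * _
    rw [hu', IsLocalization.mk'_spec' A r s]
  exact ((((isLocalizedModule_iff_isBaseChange 𝔓.primeCompl B g).1 hg).equiv).length_eq).trans
    (Module.length_eq_of_surjective (S := B) (R := A) hBA)

theorem chi_transfer (hsurj : Function.Surjective (algebraMap T R)) {W : Type u} [AddCommGroup W] [Module T W]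
    {M N : Type u} [AddCommGroup M] [Module R M] [AddCommGroup N] [Module R N]
    (h : ∀ i : ℕ, ∃ ψ : DRing.Tor T i R W →ₛₗ[algebraMap T R] DRing.Tor R i M N, Function.Bijective ψ)
    {R' W' : Type u} [AddCommGroup R'] [Module B R'] [AddCommGroup W'] [Module B W']
    (eR : (B ⊗[T] R) ≃ₗ[B] R') (eW : (B ⊗[T] W) ≃ₗ[B] W')
    {M' N' : Type u} [AddCommGroup M'] [Module A M'] [AddCommGroup N'] [Module A N']
    (eM : (A ⊗[R] M) ≃ₗ[A] M') (eN : (A ⊗[R] N) ≃ₗ[A] N') :
    IntMult.chi B R' W' = IntMult.chi A M' N' := by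
  haveI : Module.Flat T B := IsLocalization.flat B (p.comap (algebraMap T R)).primeCompl
  haveI : Module.Flat R A := IsLocalization.flat A p.primeCompl
  refine finsum_congr fun i => ?_
  obtain ⟨ψ, hψ⟩ := h i
  obtain ⟨e₁⟩ := Groth.Agent.S2428.result T B R W i
  obtain ⟨e₂⟩ := Groth.Agent.S2428.result R A M N i
  rw [← length_tor_congr eR eW i, ← length_tor_congr eM eN i, ← e₁.length_eq, ← e₂.length_eq,
    length_transfer p A B hsurj ψ hψ]

end Transfer

variable (k : Type u) [Field k] (R : Type u) [CommRing R] [Algebra k R]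

attribute [local instance] algDiag

/-- Reduction to the diagonal. -/
theorem chi_eq_diag (p P Q : Ideal R) [p.IsPrime] (A B : Type u) [CommRing A] [CommRing B] [Algebra R A]
    [IsLocalization.AtPrime A p] [Algebra (R ⊗[k] R) B] [IsLocalization.AtPrime B (p.comap (mu k R))] :
    IntMult.chi B (B ⧸ (RingHom.ker (mu k R)).map (algebraMap (R ⊗[k] R) B))
        (B ⧸ (leftIdeal k R Q ⊔ rightIdeal k R P).map (algebraMap (R ⊗[k] R) B)) =
      IntMult.chi A (A ⧸ P.map (algebraMap R A)) (A ⧸ Q.map (algebraMap R A)) := by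
  let T := R ⊗[k] R
  letI : Algebra T A := ((algebraMap R A).comp (algebraMap T R)).toAlgebra
  haveI : IsScalarTower T R A := IsScalarTower.of_algebraMap_eq fun t => rfl
  haveI : IsLocalization.AtPrime B (p.comap (algebraMap T R)) := ‹_›
  have hsurj : Function.Surjective (algebraMap T R) := mu_surjective k R
  let eR0 : R ≃ₗ[T] T ⧸ RingHom.ker (mu k R) :=
    ((Ideal.quotientKerAlgEquivOfSurjective (f := Algebra.ofId T R) hsurj).toLinearEquiv).symm
  exact chi_transfer p A B hsurj (exists_tor_bij k R P Q)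
    ((LinearEquiv.baseChange T B _ _ eR0).trans
      (Algebra.TensorProduct.quotIdealMapEquivTensorQuot B (RingHom.ker (mu k R))).symm.toLinearEquiv)
    (Algebra.TensorProduct.quotIdealMapEquivTensorQuot B (leftIdeal k R Q ⊔ rightIdeal k R P)).symm.toLinearEquiv
    (Algebra.TensorProduct.quotIdealMapEquivTensorQuot A P).symm.toLinearEquiv
    (Algebra.TensorProduct.quotIdealMapEquivTensorQuot A Q).symm.toLinearEquiv

end Groth.Agent.DiagTor
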