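import Groth.Agent.BivarOps.IntMultLemmas

/-!
Stalks of ideal sheaves read in a chart.
-/

set_option autoImplicit false
set_option linter.style.haveILetI false
set_option backward.isDefEq.respectTransparency false

universe u

open CategoryTheory AlgebraicGeometry

namespace Groth.Agent.DiagTor

variable {X : Scheme.{u}}

theorem stalkIdeal_chart (I : X.IdealSheafData) {x : X} (hx : x ∈ I.support) (U : X.affineOpens)
    (hU : x ∈ (U : X.Opens)) :
    IntMult.stalkIdeal I x = (I.ideal U).map (X.presheaf.germ U.1 x hU).hom := by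
  obtain ⟨z, rfl⟩ := BivarOps.exists_point I hx
  rw [BivarOps.stalkIdeal_eq, CMFlat.ker_stalkMap_eq I.subschemeι z U hU, I.ker_subschemeι_app U]

theorem isPrime_ideal (I : X.IdealSheafData) [IsIntegral I.subscheme] {x : X} (hx : x ∈ I.support)
    (U : X.affineOpens) (hU : x ∈ (U : X.Opens)) : (I.ideal U).IsPrime := by
  obtain ⟨z, rfl⟩ := BivarOps.exists_point I hx
  haveI : Nonempty (I.subschemeι ⁻¹ᵁ U.1) := ⟨⟨z, hU⟩⟩
  rw [← I.ker_subschemeι_app U]
  exact RingHom.ker_isPrime _

end Groth.Agent.DiagTor
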