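import Groth.Agent.DiagTor.Pos
import Groth.Agent.DiagTor.Chart
import Groth.Agent.CDivNormal.Primes

/-!
Vanishing of the alternating sum of Tor lengths in too small dimension.
-/

set_option autoImplicit false
set_option linter.style.haveILetI false
set_option backward.isDefEq.respectTransparency false

universe u

open CategoryTheory AlgebraicGeometry TensorProduct

namespace Groth.Agent.DiagTor

variable (k : Type u) [Field k] [IsAlgClosed k]

include k in
/-- Serre's vanishing over a smooth algebra. -/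
theorem chi_zero_ring (R : Type u) [CommRing R] [IsDomain R] [Algebra k R] [Algebra.Smooth k R]
    (p P Q : Ideal R) [p.IsPrime] [P.IsPrime] [Q.IsPrime] (hP : P ≤ p) (hQ : Q ≤ p)
    (A : Type u) [CommRing A] [Algebra R A] [IsLocalization.AtPrime A p] [IsRegularLocalRing A]
    (N a b : ℕ) (hN : ringKrullDim A = (N : WithBot ℕ∞))
    (ha : ringKrullDim (A ⧸ P.map (algebraMap R A)) = (a : WithBot ℕ∞))
    (hb : ringKrullDim (A ⧸ Q.map (algebraMap R A)) = (b : WithBot ℕ∞))
    (hrad : IsLocalRing.maximalIdeal A ≤ (Q.map (algebraMap R A) ⊔ P.map (algebraMap R A)).radical)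
    (hab : a + b < N) :
    IntMult.chi A (A ⧸ P.map (algebraMap R A)) (A ⧸ Q.map (algebraMap R A)) = 0 := by
  haveI : IsRegularLocalRing (Localization.AtPrime (p.comap (mu k R))) :=
    isRegularLocalRing_of_smooth (k := k) (R ⊗[k] R) _
  obtain ⟨c, D0, l, hc, hl, hm, hw, hof, hok, hd⟩ := exists_diag_regular k R p P Q hP hQ A N a b hN ha hb hrad
  rw [← chi_eq_diag k R p P Q A (Localization.AtPrime (p.comap (mu k R))), ← hof, KChi.intMult_chi_eq l hw]
  refine KChi.chi_eq_zero_of_lt l hm _ hok ?_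
  rw [Module.supportDim_quotient_eq_ringKrullDim, hd, hl, Nat.cast_lt]
  omega

/-- Serre's vanishing in a local ring of a smooth variety. -/
theorem chi_zero_stalk {X : Scheme.{u}} (f : X ⟶ Spec (CommRingCat.of k)) [Smooth f] [IsIntegral X] (x : X)
    (P Q : Ideal (X.presheaf.stalk x)) [P.IsPrime] [Q.IsPrime] (N a b : ℕ)
    (hN : ringKrullDim (X.presheaf.stalk x) = (N : WithBot ℕ∞))
    (ha : ringKrullDim (X.presheaf.stalk x ⧸ P) = (a : WithBot ℕ∞))
    (hb : ringKrullDim (X.presheaf.stalk x ⧸ Q) = (b : WithBot ℕ∞))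
    (hrad : IsLocalRing.maximalIdeal (X.presheaf.stalk x) ≤ (Q ⊔ P).radical) (hab : a + b < N) :
    IntMult.chi (X.presheaf.stalk x) (X.presheaf.stalk x ⧸ P) (X.presheaf.stalk x ⧸ Q) = 0 := by
  haveI := SmLocalST.isRegularLocalRing_stalk_of_smooth_field f x
  obtain ⟨U, hU, hxU, -⟩ := exists_isAffineOpen_mem_and_subset (x := x) (U := ⊤) trivial
  haveI : Nonempty U := ⟨⟨x, hxU⟩⟩
  have hfT := f.smooth_appLE (isAffineOpen_top _) hU le_top
  letI : Algebra k Γ(X, U) := ((Scheme.ΓSpecIso (CommRingCat.of k)).inv ≫ f.appLE ⊤ U le_top).hom.toAlgebra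
  haveI : Algebra.Smooth k Γ(X, U) := RingHom.smooth_algebraMap.1 <| by
    rw [RingHom.algebraMap_toAlgebra]
    exact RingHom.Smooth.comp (RingHom.Smooth.of_bijective
      (Scheme.ΓSpecIso (CommRingCat.of k)).symm.commRingCatIsoToRingEquiv.bijective) hfT
  letI : Algebra Γ(X, U) (X.presheaf.stalk x) := (X.presheaf.germ U x hxU).hom.toAlgebra
  haveI : IsLocalization.AtPrime (X.presheaf.stalk x) (hU.primeIdealOf ⟨x, hxU⟩).asIdeal :=
    hU.isLocalization_stalk ⟨x, hxU⟩
  set p := (hU.primeIdealOf ⟨x, hxU⟩).asIdeal with hp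
  have hle : ∀ J : Ideal (X.presheaf.stalk x), J.IsPrime → J.comap (algebraMap Γ(X, U) (X.presheaf.stalk x)) ≤ p := by
    intro J hJ a ha
    by_contra hna
    exact hJ.ne_top (Ideal.eq_top_of_isUnit_mem _ ha
      (IsLocalization.map_units (X.presheaf.stalk x) (M := p.primeCompl) ⟨a, hna⟩))
  have eP : (P.comap (algebraMap Γ(X, U) (X.presheaf.stalk x))).map (algebraMap Γ(X, U) (X.presheaf.stalk x)) = P :=
    IsLocalization.map_under p.primeCompl _ P
  have eQ : (Q.comap (algebraMap Γ(X, U) (X.presheaf.stalk x))).map (algebraMap Γ(X, U) (X.presheaf.stalk x)) = Q :=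
    IsLocalization.map_under p.primeCompl _ Q
  rw [← eP, ← eQ]
  refine chi_zero_ring k Γ(X, U) p _ _ (hle P ‹_›) (hle Q ‹_›) _ N a b hN ?_ ?_ ?_ hab
  · rw [eP]; exact ha
  · rw [eQ]; exact hb
  · rw [eP, eQ]; exact hrad

end Groth.Agent.DiagTor
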