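import Groth.Agent.DiagTor.Localize
import Groth.Agent.DiagTor.Chart
import Groth.Agent.FpqcDescent.IdealGlue
import Mathlib

/-!
The local ring of `X × X` at a point of the diagonal as a localisation of `R ⊗ R`.
-/

set_option autoImplicit false
set_option linter.style.haveILetI false
set_option backward.isDefEq.respectTransparency false

universe u

open CategoryTheory CategoryTheory.Limits AlgebraicGeometry TensorProduct

namespace Groth.Agent.DiagTor

variable {X : Scheme.{u}}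

theorem appLE_chart {S : CommRingCat.{u}} {U : X.Opens} (hU : IsAffineOpen U) (φ : Γ(X, U) ⟶ S) (g : Spec S ⟶ X)
    (hg : g = Spec.map φ ≫ hU.fromSpec) (e : (⊤ : (Spec S).Opens) ≤ g ⁻¹ᵁ U) :
    g.appLE U ⊤ e = φ ≫ (Scheme.ΓSpecIso S).inv := by
  subst hg
  rw [← Scheme.Hom.appLE_comp_appLE (Spec.map φ) hU.fromSpec U ⊤ ⊤ hU.fromSpec_preimage_self.ge le_top]
  rw [Scheme.Hom.appLE, hU.fromSpec_app_self]
  simp [Scheme.Hom.map_appLE, Scheme.ΓSpecIso_inv_naturality]
  exact Scheme.Hom.appLE_eq_app _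

theorem stalkMap_chart {P : Scheme.{u}} {S : CommRingCat.{u}} {U : X.Opens} (hU : IsAffineOpen U)
    (φ : Γ(X, U) ⟶ S) (j : Spec S ⟶ P) (π : P ⟶ X) (hg : j ≫ π = Spec.map φ ≫ hU.fromSpec) (q : Spec S)
    (h : π (j q) ∈ U) (a : Γ(X, U)) :
    (j.stalkMap q).hom ((π.stalkMap (j q)).hom ((X.presheaf.germ U (π (j q)) h).hom a)) =
      ((Scheme.ΓSpecIso S).inv ≫ (Spec S).presheaf.germ ⊤ q trivial).hom (φ.hom a) := by
  have e : (⊤ : (Spec S).Opens) ≤ (j ≫ π) ⁻¹ᵁ U := fun w _ => by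
    have hw : (j ≫ π) w ∈ Set.range hU.fromSpec := by
      rw [hg, Scheme.Hom.comp_apply]
      exact ⟨_, rfl⟩
    rw [hU.range_fromSpec] at hw
    exact hw
  have h1 : X.presheaf.germ U (π (j q)) h ≫ π.stalkMap (j q) ≫ j.stalkMap q =
      φ ≫ (Scheme.ΓSpecIso S).inv ≫ (Spec S).presheaf.germ ⊤ q trivial := by
    rw [← Scheme.Hom.stalkMap_comp, ← Category.assoc φ, ← appLE_chart hU φ (j ≫ π) hg e, Scheme.Hom.appLE,
      Category.assoc, TopCat.Presheaf.germ_res]
    exact Scheme.Hom.germ_stalkMap (j ≫ π) U q h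
  exact congr($(h1).hom a)

theorem germ_app_id {U : X.Opens} (g : X ⟶ X) (hg : g = 𝟙 X) (ξ : X) (hξ : ξ ∈ U) (h : ξ ∈ g ⁻¹ᵁ U) (a : Γ(X, U)) :
    (X.presheaf.germ (g ⁻¹ᵁ U) ξ h).hom ((g.app U).hom a) = (X.presheaf.germ U ξ hξ).hom a := by
  subst hg
  rfl

theorem stalkIdeal_comap {P : Scheme.{u}} (π : P ⟶ X) (I : X.IdealSheafData) {z : P} (hz : π z ∈ I.support) :
    IntMult.stalkIdeal (I.comap π) z = (IntMult.stalkIdeal I (π z)).map (π.stalkMap z).hom := by
  obtain ⟨U, hU, hxU, -⟩ := exists_isAffineOpen_mem_and_subset (x := π z) (U := ⊤) trivial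
  obtain ⟨W, hW, hzW, hWU⟩ := exists_isAffineOpen_mem_and_subset (x := z) (U := π ⁻¹ᵁ U) hxU
  have hzI : z ∈ (I.comap π).support := by
    rw [Scheme.IdealSheafData.support_comap]; exact hz
  rw [stalkIdeal_chart (I.comap π) hzI ⟨W, hW⟩ hzW, stalkIdeal_chart I hz ⟨U, hU⟩ hxU,
    FpqcDescent.ideal_comap_appLE I π ⟨U, hU⟩ ⟨W, hW⟩ hWU, Ideal.map_map, Ideal.map_map,
    ← CommRingCat.hom_comp, ← CommRingCat.hom_comp]
  congr 2
  rw [Scheme.Hom.appLE, Category.assoc, TopCat.Presheaf.germ_res]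
  exact (Scheme.Hom.germ_stalkMap π U z hxU).symm

theorem stalkIdeal_sup (I J : X.IdealSheafData) {x : X} (hI : x ∈ I.support) (hJ : x ∈ J.support) :
    IntMult.stalkIdeal (I ⊔ J) x = IntMult.stalkIdeal I x ⊔ IntMult.stalkIdeal J x := by
  obtain ⟨U, hU, hxU, -⟩ := exists_isAffineOpen_mem_and_subset (x := x) (U := ⊤) trivial
  have hIJ : x ∈ (I ⊔ J).support := by
    rw [Scheme.IdealSheafData.support_sup]; exact ⟨hI, hJ⟩
  rw [stalkIdeal_chart _ hIJ ⟨U, hU⟩ hxU, stalkIdeal_chart _ hI ⟨U, hU⟩ hxU, stalkIdeal_chart _ hJ ⟨U, hU⟩ hxU,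
    Scheme.IdealSheafData.ideal_sup, Pi.sup_apply, Ideal.map_sup]

theorem stalkIdeal_ker {Z : Scheme.{u}} (i : Z ⟶ X) [IsClosedImmersion i] (z : Z) :
    IntMult.stalkIdeal i.ker (i z) = RingHom.ker (i.stalkMap z).hom := by
  obtain ⟨U, hU, hxU, -⟩ := exists_isAffineOpen_mem_and_subset (x := i z) (U := ⊤) trivial
  have hs : i z ∈ i.ker.support := i.range_subset_ker_support ⟨z, rfl⟩
  rw [stalkIdeal_chart _ hs ⟨U, hU⟩ hxU, CMFlat.ker_stalkMap_eq i z ⟨U, hU⟩ hxU, Scheme.Hom.ker_apply]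

variable {K : Type u} [Field K] (f : X ⟶ Spec (CommRingCat.of K))

theorem specMap_secAlg {U : X.Opens} (hU : IsAffineOpen U) :
    Spec.map ((Scheme.ΓSpecIso (CommRingCat.of K)).inv ≫ f.appLE ⊤ U le_top) = hU.fromSpec ≫ f := by
  rw [← (isAffineOpen_top (Spec (CommRingCat.of K))).SpecMap_appLE_fromSpec f hU le_top, Spec.map_comp,
    IsAffineOpen.fromSpec_top (X := Spec (CommRingCat.of K)),
    Scheme.isoSpec_Spec_inv]

variable (U : X.Opens) (hU : IsAffineOpen U) [Algebra K Γ(X, U)]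

/-- The chart `Spec (R ⊗ R) → X × X`. -/
noncomputable def prodChart (h : Spec.map (CommRingCat.ofHom (algebraMap K Γ(X, U))) = hU.fromSpec ≫ f) :
    Spec (CommRingCat.of (Γ(X, U) ⊗[K] Γ(X, U))) ⟶ pullback f f :=
  (pullbackSpecIso K Γ(X, U) Γ(X, U)).inv ≫ pullback.map _ _ f f hU.fromSpec hU.fromSpec (𝟙 _)
    (by rw [Category.comp_id]; exact h) (by rw [Category.comp_id]; exact h)

theorem exists_diag_algebra (h : Spec.map (CommRingCat.ofHom (algebraMap K Γ(X, U))) = hU.fromSpec ≫ f)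
    (ξ : X) (hξ : ξ ∈ U) :
    ∃ (h₁ : pullback.fst f f (pullback.diagonal f ξ) ∈ U) (h₂ : pullback.snd f f (pullback.diagonal f ξ) ∈ U)
      (alg : Algebra (Γ(X, U) ⊗[K] Γ(X, U)) ((pullback f f).presheaf.stalk (pullback.diagonal f ξ))),
      (letI := alg;
        IsLocalization ((hU.primeIdealOf ⟨ξ, hξ⟩).asIdeal.comap (mu K Γ(X, U))).primeCompl
          ((pullback f f).presheaf.stalk (pullback.diagonal f ξ))) ∧
      ∀ a b : Γ(X, U), (letI := alg;
        algebraMap (Γ(X, U) ⊗[K] Γ(X, U)) ((pullback f f).presheaf.stalk (pullback.diagonal f ξ)) (a ⊗ₜ b)) =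
        ((pullback.fst f f).stalkMap _).hom ((X.presheaf.germ U _ h₁).hom a) *
          ((pullback.snd f f).stalkMap _).hom ((X.presheaf.germ U _ h₂).hom b) := by
  let T := CommRingCat.of (Γ(X, U) ⊗[K] Γ(X, U))
  haveI : IsOpenImmersion (pullback.map (Spec.map (CommRingCat.ofHom (algebraMap K Γ(X, U))))
      (Spec.map (CommRingCat.ofHom (algebraMap K Γ(X, U)))) f f hU.fromSpec hU.fromSpec (𝟙 _)
      (by rw [Category.comp_id]; exact h) (by rw [Category.comp_id]; exact h)) :=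
    MorphismProperty.pullbackMap (P := @IsOpenImmersion) inferInstance inferInstance
      h (by exact h)
  haveI : IsOpenImmersion (prodChart f U hU h) := by rw [prodChart]; infer_instance
  let j := prodChart f U hU h
  let φ₁ : Γ(X, U) ⟶ T := CommRingCat.ofHom Algebra.TensorProduct.includeLeftRingHom
  let φ₂ : Γ(X, U) ⟶ T :=
    CommRingCat.ofHom (Algebra.TensorProduct.includeRight : Γ(X, U) →ₐ[K] Γ(X, U) ⊗[K] Γ(X, U)).toRingHom
  have hj1 : j ≫ pullback.fst f f = Spec.map φ₁ ≫ hU.fromSpec := by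
    simp only [j, prodChart, Category.assoc, pullback.lift_fst, pullback.map]
    rw [pullbackSpecIso_inv_fst_assoc]
  have hj2 : j ≫ pullback.snd f f = Spec.map φ₂ ≫ hU.fromSpec := by
    simp only [j, prodChart, Category.assoc, pullback.lift_snd, pullback.map]
    rw [pullbackSpecIso_inv_snd_assoc]
    rfl
  let m : T ⟶ Γ(X, U) := CommRingCat.ofHom (mu K Γ(X, U)).toRingHom
  have hjd : Spec.map m ≫ j = hU.fromSpec ≫ pullback.diagonal f := by
    apply pullback.hom_ext
    · rw [Category.assoc, hj1, Category.assoc, pullback.diagonal_fst, Category.comp_id, ← Spec.map_comp_assoc,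
        show φ₁ ≫ m = 𝟙 _ from CommRingCat.hom_ext (RingHom.ext fun a => by
          show mu K Γ(X, U) (a ⊗ₜ 1) = a; simp [mu]), Spec.map_id, Category.id_comp]
    · rw [Category.assoc, hj2, Category.assoc, pullback.diagonal_snd, Category.comp_id, ← Spec.map_comp_assoc,
        show φ₂ ≫ m = 𝟙 _ from CommRingCat.hom_ext (RingHom.ext fun a => by
          show mu K Γ(X, U) (1 ⊗ₜ a) = a; simp [mu]), Spec.map_id, Category.id_comp]
  let q := Spec.map m (hU.primeIdealOf ⟨ξ, hξ⟩)
  have hq : j q = pullback.diagonal f ξ := by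
    show j (Spec.map m _) = _
    rw [← Scheme.Hom.comp_apply, hjd, Scheme.Hom.comp_apply, hU.fromSpec_primeIdealOf]
  rw [← hq]
  have m1 : pullback.fst f f (j q) ∈ U := by
    rw [hq, ← Scheme.Hom.comp_apply, pullback.diagonal_fst]; exact hξ
  have m2 : pullback.snd f f (j q) ∈ U := by
    rw [hq, ← Scheme.Hom.comp_apply, pullback.diagonal_snd]; exact hξ
  letI algS : Algebra T ((Spec T).presheaf.stalk q) :=
    ((Scheme.ΓSpecIso T).inv ≫ (Spec T).presheaf.germ ⊤ q trivial).hom.toAlgebra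
  haveI : IsLocalization.AtPrime ((Spec T).presheaf.stalk q) q.asIdeal := by
    have : IsLocalization.AtPrime ((Spec.structureSheaf T).presheaf.stalk q) q.asIdeal := inferInstance
    exact this
  let e : (Spec T).presheaf.stalk q ≃+* (pullback f f).presheaf.stalk (j q) :=
    (asIso (j.stalkMap q)).commRingCatIsoToRingEquiv.symm
  letI alg : Algebra (Γ(X, U) ⊗[K] Γ(X, U)) ((pullback f f).presheaf.stalk (j q)) :=
    (e.toRingHom.comp (algebraMap T ((Spec T).presheaf.stalk q))).toAlgebra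
  refine ⟨m1, m2, alg, ?_, fun a b => ?_⟩
  · show IsLocalization q.asIdeal.primeCompl ((pullback f f).presheaf.stalk (j q))
    exact IsLocalization.isLocalization_of_algEquiv (R := Γ(X, U) ⊗[K] Γ(X, U)) q.asIdeal.primeCompl
      ({ e with commutes' := fun t => rfl } :
        (Spec T).presheaf.stalk q ≃ₐ[Γ(X, U) ⊗[K] Γ(X, U)] (pullback f f).presheaf.stalk (j q))
  · show e (algebraMap T ((Spec T).presheaf.stalk q) (a ⊗ₜ b)) = _
    apply e.symm.injective
    rw [RingEquiv.symm_apply_apply]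
    show algebraMap T ((Spec T).presheaf.stalk q) (a ⊗ₜ b) = (j.stalkMap q).hom _
    rw [map_mul, stalkMap_chart hU φ₁ j (pullback.fst f f) hj1 q m1 a,
      stalkMap_chart hU φ₂ j (pullback.snd f f) hj2 q m2 b, ← map_mul]
    show _ = algebraMap T ((Spec T).presheaf.stalk q) ((a ⊗ₜ 1) * (1 ⊗ₜ b))
    rw [Algebra.TensorProduct.tmul_mul_tmul, one_mul, mul_one]

theorem ker_prodMap (IV IW : X.IdealSheafData) [IsClosedImmersion (pullback.map (IV.subschemeι ≫ f)
    (IW.subschemeι ≫ f) f f IV.subschemeι IW.subschemeι (𝟙 _) (Category.comp_id _) (Category.comp_id _))] :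
    (pullback.map (IV.subschemeι ≫ f) (IW.subschemeι ≫ f) f f IV.subschemeι IW.subschemeι (𝟙 _)
      (Category.comp_id _) (Category.comp_id _)).ker =
      IV.comap (pullback.fst f f) ⊔ IW.comap (pullback.snd f f) := by
  set π := pullback.map (IV.subschemeι ≫ f) (IW.subschemeι ≫ f) f f IV.subschemeι IW.subschemeι (𝟙 _)
    (Category.comp_id _) (Category.comp_id _) with hπ
  apply le_antisymm
  · set L := IV.comap (pullback.fst f f) ⊔ IW.comap (pullback.snd f f) with hL
    let a := Scheme.IdealSheafData.subschemeMap L IV (pullback.fst f f)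
      (Scheme.IdealSheafData.le_map_iff_comap_le.2 le_sup_left)
    let b := Scheme.IdealSheafData.subschemeMap L IW (pullback.snd f f)
      (Scheme.IdealSheafData.le_map_iff_comap_le.2 le_sup_right)
    have ha : a ≫ IV.subschemeι = L.subschemeι ≫ pullback.fst f f := Scheme.IdealSheafData.subschemeMap_subschemeι ..
    have hb : b ≫ IW.subschemeι = L.subschemeι ≫ pullback.snd f f := Scheme.IdealSheafData.subschemeMap_subschemeι ..
    let l : L.subscheme ⟶ pullback (IV.subschemeι ≫ f) (IW.subschemeι ≫ f) := pullback.lift a b (by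
      rw [← Category.assoc, ha, ← Category.assoc, hb, Category.assoc, Category.assoc, pullback.condition])
    have hl : l ≫ π = L.subschemeι := by
      apply pullback.hom_ext
      · simp [l, hπ, ha]
      · simp [l, hπ, hb]
    calc π.ker ≤ (l ≫ π).ker := Scheme.Hom.le_ker_comp _ _
      _ = L := by rw [hl, Scheme.IdealSheafData.ker_subschemeι]
  · refine sup_le ?_ ?_
    · rw [← Scheme.IdealSheafData.le_map_iff_comap_le, Scheme.IdealSheafData.map_ker]
      calc IV = IV.subschemeι.ker := IV.ker_subschemeι.symm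
        _ ≤ (pullback.fst (IV.subschemeι ≫ f) (IW.subschemeι ≫ f) ≫ IV.subschemeι).ker :=
          Scheme.Hom.le_ker_comp _ _
        _ = _ := by rw [hπ, pullback.lift_fst]
    · rw [← Scheme.IdealSheafData.le_map_iff_comap_le, Scheme.IdealSheafData.map_ker]
      calc IW = IW.subschemeι.ker := IW.ker_subschemeι.symm
        _ ≤ (pullback.snd (IV.subschemeι ≫ f) (IW.subschemeι ≫ f) ≫ IW.subschemeι).ker :=
          Scheme.Hom.le_ker_comp _ _
        _ = _ := by rw [hπ, pullback.lift_snd]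

end Groth.Agent.DiagTor
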