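import Groth.Agent.DiagTor.Rings
import Groth.Agent.DimFormula.Field
import Groth.Agent.Unibranch.Noether
import Groth.Agent.GeomConn.Basic
import Groth.Agent.Cohen.Ratliff
import Mathlib

/-!
Dimensions on `R ⊗ R`.
-/

set_option autoImplicit false
set_option linter.style.haveILetI false
set_option backward.isDefEq.respectTransparency false

universe u

open TensorProduct

namespace Groth.Agent.DiagTor

theorem ringKrullDim_tensor_add {k : Type u} [Field k] (D E : Type u) [CommRing D] [CommRing E] [Algebra k D]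
    [Algebra k E] [Algebra.FiniteType k D] [Algebra.FiniteType k E] [Nontrivial D] [Nontrivial E] :
    ringKrullDim (D ⊗[k] E) = ringKrullDim D + ringKrullDim E := by
  obtain ⟨s, g, hgi, hgf⟩ := exists_finite_inj_algHom_of_fg k D
  obtain ⟨t, h, hhi, hhf⟩ := exists_finite_inj_algHom_of_fg k E
  haveI : Nontrivial (D ⊗[k] E) := TensorProduct.nontrivial_of_linearMap_injective_of_flat_left k D E
    (Algebra.linearMap k E) (algebraMap k E).injective
  let m : MvPolynomial (Fin s) k ⊗[k] MvPolynomial (Fin t) k →ₐ[k] D ⊗[k] E := Algebra.TensorProduct.map g h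
  let e := (finSumFinEquiv (m := s) (n := t))
  let ψ : MvPolynomial (Fin (s + t)) k ≃ₐ[k] MvPolynomial (Fin s) k ⊗[k] MvPolynomial (Fin t) k :=
    (MvPolynomial.renameEquiv k e.symm).trans (MvPolynomial.tensorEquivSum k (Fin s) (Fin t) k).symm
  have hm : Function.Injective m := by
    have h1 : Function.Injective (TensorProduct.map g.toLinearMap h.toLinearMap) := by
      rw [show TensorProduct.map g.toLinearMap h.toLinearMap =
        (g.toLinearMap.rTensor E) ∘ₗ (h.toLinearMap.lTensor (MvPolynomial (Fin s) k)) from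
          (LinearMap.rTensor_comp_lTensor _ _ _).symm]
      exact (Module.Flat.rTensor_preserves_injective_linearMap _ hgi).comp
        (Module.Flat.lTensor_preserves_injective_linearMap _ hhi)
    exact h1
  have hf : m.Finite := RingHom.Finite.tensorProductMap hgf hhf
  rw [Unibranch.ringKrullDim_eq_of_finite_inj g hgi hgf, Unibranch.ringKrullDim_eq_of_finite_inj h hhi hhf,
    Unibranch.ringKrullDim_eq_of_finite_inj (m.comp ψ.toAlgHom) (hm.comp ψ.injective)
      (RingHom.Finite.comp hf (RingHom.Finite.of_surjective _ ψ.surjective)), Nat.cast_add]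

theorem isDomain_tensor_domain {k : Type u} [Field k] [IsAlgClosed k] (D E : Type u) [CommRing D] [CommRing E]
    [Algebra k D] [Algebra k E] [Algebra.FiniteType k D] [IsDomain D] [IsDomain E] : IsDomain (D ⊗[k] E) := by
  haveI : IsDomain (D ⊗[k] FractionRing E) := GeomConn.isDomain_tensor_fg
  let m : D ⊗[k] E →ₐ[k] D ⊗[k] FractionRing E :=
    Algebra.TensorProduct.map (AlgHom.id k D) (IsScalarTower.toAlgHom k E (FractionRing E))
  exact Function.Injective.isDomain (f := m)
    (Module.Flat.lTensor_preserves_injective_linearMap _ (IsFractionRing.injective E (FractionRing E)))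

variable (k : Type u) [Field k] [IsAlgClosed k] (R : Type u) [CommRing R] [Algebra k R] [Algebra.FiniteType k R]

/-- Dimension of the localisation of an affine domain quotient. -/
theorem dim_localization_quotient {W : Type u} [CommRing W] [Algebra k W] [Algebra.FiniteType k W]
    (N P : Ideal W) [N.IsPrime] [P.IsPrime] (hPN : P ≤ N) (B : Type u) [CommRing B] [Algebra W B]
    [IsLocalization.AtPrime B N] :
    ∃ a : ℕ, ringKrullDim (B ⧸ P.map (algebraMap W B)) = (a : WithBot ℕ∞) ∧
      (a : WithBot ℕ∞) + ringKrullDim (W ⧸ N) = ringKrullDim (W ⧸ P) := by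
  haveI : IsNoetherianRing W := Algebra.FiniteType.isNoetherianRing k W
  let e : Localization.AtPrime N ≃ₐ[W] B := IsLocalization.algEquiv N.primeCompl _ _
  have he : ringKrullDim (B ⧸ P.map (algebraMap W B)) =
      ringKrullDim (Localization.AtPrime N ⧸ P.map (algebraMap W (Localization.AtPrime N))) := by
    refine (ringKrullDim_eq_of_ringEquiv (Ideal.quotientEquiv _ _ e.toRingEquiv ?_)).symm
    show _ = Ideal.map e.toRingEquiv.toRingHom _
    rw [Ideal.map_map]
    congr 1
    exact (RingHom.ext fun w => e.commutes w).symm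
  rw [he, Cohen.ringKrullDim_localization_quotient N P hPN]
  haveI : (N.map (Ideal.Quotient.mk P)).IsPrime :=
    Ideal.map_isPrime_of_surjective Ideal.Quotient.mk_surjective (by rwa [Ideal.mk_ker])
  obtain ⟨h, t, s, hh, ht, hs, hadd⟩ :=
    DimFormula.exists_height_add_trdeg k (F := W ⧸ P) (N.map (Ideal.Quotient.mk P))
  have hq := DimFormula.height_add_ringKrullDim_quotient k (F := W ⧸ P) ⟨N.map (Ideal.Quotient.mk P), ‹_›⟩
  have hNN : ringKrullDim ((W ⧸ P) ⧸ N.map (Ideal.Quotient.mk P)) = ringKrullDim (W ⧸ N) :=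
    ringKrullDim_eq_of_ringEquiv (DoubleQuot.quotQuotEquivQuotOfLE hPN)
  rw [hNN] at hq
  refine ⟨h, by rw [hh]; rfl, ?_⟩
  rw [← hq, hh]
  rfl

theorem prime_sum (P Q : Ideal R) [P.IsPrime] [Q.IsPrime] :
    (leftIdeal k R Q ⊔ rightIdeal k R P).IsPrime ∧
      ringKrullDim ((R ⊗[k] R) ⧸ (leftIdeal k R Q ⊔ rightIdeal k R P)) =
        ringKrullDim (R ⧸ Q) + ringKrullDim (R ⧸ P) := by
  let m := Algebra.TensorProduct.map (Ideal.Quotient.mkₐ k Q) (Ideal.Quotient.mkₐ k P)
  have hm : Function.Surjective m :=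
    Algebra.TensorProduct.map_surjective _ _ Ideal.Quotient.mk_surjective Ideal.Quotient.mk_surjective
  have hker : RingHom.ker m = leftIdeal k R Q ⊔ rightIdeal k R P := by
    rw [Algebra.TensorProduct.map_ker _ _ Ideal.Quotient.mk_surjective Ideal.Quotient.mk_surjective,
      show RingHom.ker (Ideal.Quotient.mkₐ k Q) = Q from Ideal.mk_ker,
      show RingHom.ker (Ideal.Quotient.mkₐ k P) = P from Ideal.mk_ker]
    rfl
  haveI := isDomain_tensor_domain (k := k) (R ⧸ Q) (R ⧸ P)
  refine ⟨hker ▸ RingHom.ker_isPrime _, ?_⟩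
  rw [← hker, ringKrullDim_eq_of_ringEquiv (RingHom.quotientKerEquivOfSurjective hm), ringKrullDim_tensor_add]

end Groth.Agent.DiagTor
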