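import Groth.Agent.BivarOps.IntMultVanish
import Groth.Agent.S3537
import Groth.Agent.S4494
import Mathlib

/-!
Reduction of Tor to the diagonal: the algebraic comparison.

`T` is an `R`-algebra with a retraction `μ : T → R` (the diagonal), `C` a quotient of `T` and `ρ : R → T` a second
section of `μ`. If `R` and `C` are Tor-independent over `T`, and `C` is flat over `R` along `ρ`, then
`Tor^T(R, C ⊗_R N)` is `Tor^R(C ⊗_T R, N)`.
-/

set_option autoImplicit false
set_option linter.style.haveILetI false
set_option backward.isDefEq.respectTransparency false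

universe u

open CategoryTheory TensorProduct

namespace Groth.Agent.DiagTor

theorem subsingleton_tor_retract (R T : Type u) [CommRing R] [CommRing T] [Algebra R T] [Module.Flat R T]
    [Algebra T R] [IsScalarTower R T R] (M : Type u) [AddCommGroup M] [Module R M] (i : ℕ) (hi : 1 ≤ i) :
    Subsingleton (DRing.Tor T i R (T ⊗[R] M)) := by
  obtain ⟨φ, hφ⟩ := Groth.Agent.S4494.result R T R M i
  haveI : Subsingleton (DRing.Tor R i R M) := by
    obtain ⟨j, rfl⟩ : ∃ j, i = j + 1 := ⟨i - 1, by omega⟩
    exact ModuleCat.subsingleton_of_isZero (TorBalance.isZero_flat (ModuleCat.of R R) (ModuleCat.of R M) j)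
  exact hφ.surjective.subsingleton

theorem smul_tor_congr {C : Type u} [CommRing C] (a b : C) (P W : Type u) [AddCommGroup P] [Module C P]
    [AddCommGroup W] [Module C W] (h : ∀ x : P, a • x = b • x) (n : ℕ) (y : DRing.Tor C n P W) :
    a • y = b • y := by
  have h1 := BivarOps.smul_tor_left (a - b) (ModuleCat.of C P) (ModuleCat.of C W)
    (fun x => by rw [sub_smul, sub_eq_zero]; exact h x) n
  have h2 : (a - b) • y = 0 := congr($h1 y)
  rwa [sub_smul, sub_eq_zero] at h2

theorem exists_tor_diag (R T C : Type u) [CommRing R] [CommRing T] [CommRing C] [Algebra R T]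
    [Algebra T R] [IsScalarTower R T R] [Algebra T C] [Algebra R C] [IsScalarTower R T C] [Module.Flat R C]
    (hC : ∀ q : ℕ, 0 < q → Subsingleton (DRing.Tor T q R C))
    (M : Type u) [AddCommGroup M] [Module R M] (eM : C ⊗[T] R ≃+ M)
    (heM : ∀ (r : R) (x : C ⊗[T] R), eM (algebraMap R C r • x) = r • eM x)
    (N : Type u) [AddCommGroup N] [Module R N] (n : ℕ) :
    ∃ ψ : DRing.Tor T n R (C ⊗[R] N) →ₛₗ[algebraMap T R] DRing.Tor R n M N, Function.Bijective ψ := by
  obtain ⟨φ₁, hφ₁⟩ := Groth.Agent.S3537.result T C R (C ⊗[R] N) hC n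
  let eM' : (C ⊗[T] R) ≃ₗ[R] M := { eM with map_smul' := fun r x => (congrArg eM (algebraMap_smul C r x).symm).trans (heM r x) }
  obtain ⟨φ₂, hφ₂⟩ := Groth.Agent.S4494.result R C (C ⊗[T] R) N n
  let eT : DRing.Tor R n (C ⊗[T] R) N ≃ₗ[R] DRing.Tor R n M N :=
    (((CategoryTheory.Tor (ModuleCat.{u} R) n).mapIso eM'.toModuleIso).app (ModuleCat.of R N)).toLinearEquiv
  let e₂ := Equiv.ofBijective φ₂ hφ₂
  have key : ∀ (t : T) (y : DRing.Tor C n (C ⊗[T] R) (C ⊗[R] N)),
      algebraMap T C t • y = algebraMap R C (algebraMap T R t) • y := fun t y => by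
    refine smul_tor_congr _ _ _ _ (fun x => ?_) n y
    induction x with
    | zero => simp
    | add x z hx hz => simp only [smul_add, hx, hz]
    | tmul c r =>
      rw [IsScalarTower.algebraMap_apply R T C, TensorProduct.smul_tmul', TensorProduct.smul_tmul',
        algebraMap_smul C t c, algebraMap_smul C (algebraMap R T (algebraMap T R t)) c, TensorProduct.smul_tmul, TensorProduct.smul_tmul]
      congr 1
      rw [Algebra.smul_def, Algebra.smul_def, ← IsScalarTower.algebraMap_apply R T R,
        Algebra.algebraMap_self_apply]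
  refine ⟨{
    toFun := fun x => eT (e₂.symm (φ₁ x))
    map_add' := fun a b => by
      rw [← map_add eT]
      congr 1
      apply e₂.injective
      rw [Equiv.apply_symm_apply, map_add]
      show φ₁ a + φ₁ b = φ₂ (_ + _)
      rw [map_add]
      exact congrArg₂ (· + ·) (e₂.apply_symm_apply _).symm (e₂.apply_symm_apply _).symm
    map_smul' := fun t a => by
      rw [← map_smul eT]
      congr 1
      apply e₂.injective
      rw [Equiv.apply_symm_apply, map_smulₛₗ]
      show _ = φ₂ (algebraMap T R t • e₂.symm (φ₁ a))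
      rw [map_smulₛₗ, show φ₂ (e₂.symm (φ₁ a)) = φ₁ a from e₂.apply_symm_apply _]
      exact key t _ }, ?_⟩
  exact eT.bijective.comp (e₂.symm.bijective.comp hφ₁)

end Groth.Agent.DiagTor
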