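import Groth.Agent.DiagTor.Localize
import Groth.Agent.DiagTor.Dim
import Groth.Agent.KChi.TorKoszul
import Groth.Agent.KChi.Dim
import Groth.Agent.SmLocalST.SmoothField
import Groth.Agent.RegLocus.Smooth
import Groth.Agent.S0559
import Groth.Agent.S0561

/-!
Positivity of the intersection multiplicity by reduction to the diagonal.
-/

set_option autoImplicit false
set_option linter.style.haveILetI false
set_option backward.isDefEq.respectTransparency false

universe u

open CategoryTheory AlgebraicGeometry TensorProduct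

namespace Groth.Agent.DiagTor

theorem isRegularLocalRing_of_smooth {k : Type u} [Field k] (S : Type u) [CommRing S] [Algebra k S]
    [Algebra.Smooth k S] (Q : Ideal S) [Q.IsPrime] : IsRegularLocalRing (Localization.AtPrime Q) := by
  let f := Spec.map (CommRingCat.ofHom (algebraMap k S))
  haveI : Smooth f := (HasRingHomProperty.Spec_iff (P := @Smooth)).2 (RingHom.smooth_algebraMap.2 ‹_›)
  exact RegLocus.of_stalk (CommRingCat.of S) ⟨Q, ‹_›⟩ (SmLocalST.isRegularLocalRing_stalk_of_smooth_field f _)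

instance smooth_tensor (k R : Type u) [CommRing k] [CommRing R] [Algebra k R] [Algebra.Smooth k R] :
    Algebra.Smooth k (R ⊗[k] R) := Algebra.Smooth.comp k R (R ⊗[k] R)

variable (k : Type u) [Field k] [IsAlgClosed k] (R : Type u) [CommRing R] [IsDomain R] [Algebra k R]
  [Algebra.Smooth k R]

set_option maxHeartbeats 2000000 in
/-- The data on the diagonal side: `Δ` is cut out by a regular sequence which is a system of parameters on
`R/Q ⊗ R/P`. -/
theorem exists_diag_regular (p P Q : Ideal R) [p.IsPrime] [P.IsPrime] [Q.IsPrime] (hP : P ≤ p) (hQ : Q ≤ p)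
    (A : Type u) [CommRing A] [Algebra R A] [IsLocalization.AtPrime A p] [IsRegularLocalRing A]
    (N a b : ℕ) (hN : ringKrullDim A = (N : WithBot ℕ∞))
    (ha : ringKrullDim (A ⧸ P.map (algebraMap R A)) = (a : WithBot ℕ∞))
    (hb : ringKrullDim (A ⧸ Q.map (algebraMap R A)) = (b : WithBot ℕ∞))
    (hrad : IsLocalRing.maximalIdeal A ≤ (Q.map (algebraMap R A) ⊔ P.map (algebraMap R A)).radical) :
    haveI : IsRegularLocalRing (Localization.AtPrime (p.comap (mu k R))) :=
      isRegularLocalRing_of_smooth (k := k) (R ⊗[k] R) _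
    ∃ (c D0 : ℕ) (l : List (Localization.AtPrime (p.comap (mu k R)))),
      c = N + D0 ∧ l.length = c ∧ (∀ x ∈ l, x ∈ IsLocalRing.maximalIdeal _) ∧
      RingTheory.Sequence.IsWeaklyRegular (Localization.AtPrime (p.comap (mu k R))) l ∧
      Ideal.ofList l = (RingHom.ker (mu k R)).map
        (algebraMap (R ⊗[k] R) (Localization.AtPrime (p.comap (mu k R)))) ∧
      KChi.Ok l (Localization.AtPrime (p.comap (mu k R)) ⧸ (leftIdeal k R Q ⊔ rightIdeal k R P).map
        (algebraMap (R ⊗[k] R) (Localization.AtPrime (p.comap (mu k R))))) ∧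
      ringKrullDim (Localization.AtPrime (p.comap (mu k R)) ⧸ (leftIdeal k R Q ⊔ rightIdeal k R P).map
        (algebraMap (R ⊗[k] R) (Localization.AtPrime (p.comap (mu k R))))) = ((a + b + D0 : ℕ) : WithBot ℕ∞) := by
  set T := R ⊗[k] R with hTdef
  set 𝔓 := p.comap (mu k R) with h𝔓
  haveI hTdom : IsDomain T := isDomain_tensor_domain (k := k) R R
  let B := Localization.AtPrime 𝔓
  haveI hBreg : IsRegularLocalRing B := isRegularLocalRing_of_smooth (k := k) T 𝔓
  have hu : ∀ y : 𝔓.primeCompl, IsUnit ((algebraMap R A).comp (mu k R).toRingHom y) := fun y =>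
    IsLocalization.map_units A (M := p.primeCompl) ⟨_, fun h => y.2 h⟩
  let σ : B →+* A := IsLocalization.lift hu
  have hσ : ∀ t : T, σ (algebraMap T B t) = algebraMap R A (mu k R t) := fun t => IsLocalization.lift_eq hu t
  have hσs : Function.Surjective σ := fun x => by
    obtain ⟨r, s, rfl⟩ := IsLocalization.exists_mk'_eq p.primeCompl x
    obtain ⟨t, ht⟩ := mu_surjective k R r
    obtain ⟨v, hv⟩ := mu_surjective k R (s : R)
    refine ⟨IsLocalization.mk' B t (⟨v, fun h => s.2 (by rw [← hv]; exact h)⟩ : 𝔓.primeCompl), ?_⟩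
    show IsLocalization.lift hu _ = _
    rw [IsLocalization.lift_mk'_spec]
    show algebraMap R A (mu k R t) = algebraMap R A (mu k R v) * _
    rw [ht, hv, IsLocalization.mk'_spec' A r s]
  have hker : RingHom.ker σ = (RingHom.ker (mu k R)).map (algebraMap T B) := by
    refine le_antisymm (fun z hz => ?_) (Ideal.map_le_iff_le_comap.2 fun t ht => ?_)
    · obtain ⟨t, s, rfl⟩ := IsLocalization.exists_mk'_eq 𝔓.primeCompl z
      have h0 : algebraMap R A (mu k R t) = 0 := by
        rw [← hσ, ← IsLocalization.mk'_spec B t s, map_mul, RingHom.mem_ker.1 hz, zero_mul]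
      have h1 : mu k R t = 0 := IsLocalization.injective A p.primeCompl_le_nonZeroDivisors (h0.trans (map_zero _).symm)
      exact IsLocalization.mk'_mem_iff.2 (Ideal.mem_map_of_mem _ h1)
    · rw [Ideal.mem_comap, RingHom.mem_ker, hσ, RingHom.mem_ker.1 ht, map_zero]
  obtain ⟨D0, -, hD0⟩ := DimFormula.exists_trdeg_eq_ringKrullDim (k := k) (F := R ⧸ p)
  have hTp : ringKrullDim (T ⧸ 𝔓) = (D0 : WithBot ℕ∞) := by
    rw [← hD0]
    have hs := (Ideal.Quotient.mk_surjective (I := p)).comp (mu_surjective k R)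
    refine ringKrullDim_eq_of_ringEquiv ((Ideal.quotEquivOfEq ?_).trans
      (RingHom.quotientKerEquivOfSurjective (f := (Ideal.Quotient.mk p).comp (mu k R).toRingHom) hs))
    rw [h𝔓, ← RingHom.comap_ker, Ideal.mk_ker]
    rfl
  have cast_eq : ∀ {x y : ℕ}, (x : WithBot ℕ∞) = (y : WithBot ℕ∞) → x = y := fun h => by exact_mod_cast h
  obtain ⟨a', ha', hadA⟩ := dim_localization_quotient k p P hP A
  obtain ⟨b', hb', hadB⟩ := dim_localization_quotient k p Q hQ A
  haveI : (⊥ : Ideal R).IsPrime := Ideal.isPrime_bot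
  obtain ⟨N', hN', hadN⟩ := dim_localization_quotient k p (⊥ : Ideal R) bot_le A
  obtain rfl : a = a' := cast_eq (ha.symm.trans ha')
  obtain rfl : b = b' := cast_eq (hb.symm.trans hb')
  have hN'' : N = N' := cast_eq (hN.symm.trans ((ringKrullDim_eq_of_ringEquiv
    ((Ideal.quotEquivOfEq (by rw [Ideal.map_bot])).trans (RingEquiv.quotientBot A))).symm.trans hN'))
  subst hN''
  have hR : ringKrullDim R = ((N + D0 : ℕ) : WithBot ℕ∞) := by
    rw [← ringKrullDim_eq_of_ringEquiv (RingEquiv.quotientBot R), ← hadN, hD0, Nat.cast_add]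
  have hRP : ringKrullDim (R ⧸ P) = ((a + D0 : ℕ) : WithBot ℕ∞) := by rw [← hadA, hD0, Nat.cast_add]
  have hRQ : ringKrullDim (R ⧸ Q) = ((b + D0 : ℕ) : WithBot ℕ∞) := by rw [← hadB, hD0, Nat.cast_add]
  haveI : (⊥ : Ideal T).IsPrime := Ideal.isPrime_bot
  obtain ⟨M, hM, hadM⟩ := dim_localization_quotient k 𝔓 (⊥ : Ideal T) bot_le B
  rw [hTp, ringKrullDim_eq_of_ringEquiv (RingEquiv.quotientBot T), ringKrullDim_tensor_add, hR] at hadM
  norm_cast at hadM
  have hB : ringKrullDim B = (M : WithBot ℕ∞) :=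
    (ringKrullDim_eq_of_ringEquiv ((Ideal.quotEquivOfEq (by rw [Ideal.map_bot])).trans
      (RingEquiv.quotientBot B))).symm.trans hM
  obtain ⟨hJp, hJd⟩ := prime_sum k R P Q
  haveI := hJp
  set J := leftIdeal k R Q ⊔ rightIdeal k R P with hJ
  have hmuJ : J.map (mu k R).toRingHom = Q ⊔ P := by
    rw [hJ, leftIdeal, rightIdeal, Ideal.map_sup]
    congr 1
    · show Ideal.map (mu k R).toRingHom
        (Q.map (Algebra.TensorProduct.includeLeft : R →ₐ[k] R ⊗[k] R).toRingHom) = Q
      rw [Ideal.map_map]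
      convert Ideal.map_id Q
      exact RingHom.ext fun r => by show mu k R (r ⊗ₜ 1) = r; simp [mu]
    · show Ideal.map (mu k R).toRingHom
        (P.map (Algebra.TensorProduct.includeRight : R →ₐ[k] R ⊗[k] R).toRingHom) = P
      rw [Ideal.map_map]
      convert Ideal.map_id P
      exact RingHom.ext fun r => by show mu k R (1 ⊗ₜ r) = r; simp [mu]
  have hJle : J ≤ 𝔓 := fun t ht => by
    have h := Ideal.mem_map_of_mem (mu k R).toRingHom ht
    rw [hmuJ] at h
    exact sup_le hQ hP h
  obtain ⟨e, he, hade⟩ := dim_localization_quotient k 𝔓 J hJle B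
  rw [hTp, hJd, hRQ, hRP] at hade
  norm_cast at hade
  haveI : IsRegularLocalRing (B ⧸ (RingHom.ker (mu k R)).map (algebraMap T B)) :=
    IsRegularLocalRing.of_ringEquiv
      ((Ideal.quotEquivOfEq hker.symm).trans (RingHom.quotientKerEquivOfSurjective hσs)).symm
  obtain ⟨x, c, hc, hxm, hI⟩ := Groth.Agent.S0561.result B M hB ((RingHom.ker (mu k R)).map (algebraMap T B))
  let g : Fin c → B := fun i => x (Fin.castLE hc i)
  have hreg := (Groth.Agent.S0559.result B M hB x hxm).toIsWeaklyRegular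
  have hw : RingTheory.Sequence.IsWeaklyRegular B (List.ofFn g) := by
    obtain ⟨d, rfl⟩ : ∃ d, M = c + d := ⟨M - c, by omega⟩
    rw [List.ofFn_add, RingTheory.Sequence.isWeaklyRegular_append_iff] at hreg
    exact hreg.1
  have hm : ∀ y ∈ List.ofFn g, y ∈ IsLocalRing.maximalIdeal B := fun y hy => by
    rw [List.mem_ofFn] at hy
    obtain ⟨i, rfl⟩ := hy
    exact hxm ▸ Ideal.subset_span ⟨_, rfl⟩
  have hof : Ideal.ofList (List.ofFn g) = (RingHom.ker (mu k R)).map (algebraMap T B) := by
    rw [hI, Ideal.ofList]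
    congr 1
    ext y
    simp [List.mem_ofFn, g]
  have hcd := ringKrullDim_add_length_eq_ringKrullDim_of_isRegular (List.ofFn g)
    ((IsLocalRing.isRegular_iff_isWeaklyRegular_of_subset_maximalIdeal hm).2 hw)
  rw [hof, ringKrullDim_eq_of_ringEquiv ((Ideal.quotEquivOfEq hker.symm).trans
    (RingHom.quotientKerEquivOfSurjective hσs)), hN, hB, List.length_ofFn] at hcd
  norm_cast at hcd
  have hok : KChi.Ok (List.ofFn g) (B ⧸ J.map (algebraMap T B)) := by
    rw [KChi.Ok, Ideal.annihilator_quotient, hof]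
    intro z hz
    have hz' : σ z ∈ IsLocalRing.maximalIdeal A := by
      by_contra hu'
      have hu'' : IsUnit (σ z) := not_not.1 hu'
      obtain ⟨w, hw'⟩ := hσs ↑hu''.unit⁻¹
      have h1 : z * w - 1 ∈ RingHom.ker σ := by
        rw [RingHom.mem_ker, map_sub, map_mul, hw', map_one, IsUnit.mul_val_inv, sub_self]
      have hle : RingHom.ker σ ≤ IsLocalRing.maximalIdeal B := IsLocalRing.le_maximalIdeal (RingHom.ker_ne_top σ)
      have := sub_mem (Ideal.mul_mem_right w _ hz) (hle h1)
      rw [sub_sub_cancel] at this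
      exact (IsLocalRing.maximalIdeal.isMaximal B).ne_top ((Ideal.eq_top_iff_one _).2 this)
    have hmap : (J.map (algebraMap T B)).map σ = Q.map (algebraMap R A) ⊔ P.map (algebraMap R A) := by
      rw [Ideal.map_map, show σ.comp (algebraMap T B) = (algebraMap R A).comp (mu k R).toRingHom from RingHom.ext hσ,
        ← Ideal.map_map, hmuJ, Ideal.map_sup]
    have := hrad hz'
    rw [← hmap, ← Ideal.mem_comap, Ideal.comap_radical, Ideal.comap_map_of_surjective _ hσs,
      ← RingHom.ker_eq_comap_bot, hker, sup_comm] at this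
    exact this
  refine ⟨c, D0, List.ofFn g, by omega, List.length_ofFn, hm, hw, hof, hok, ?_⟩
  rw [he]
  congr 1
  omega

include k in
/-- Serre's inequality and positivity. -/
theorem chi_pos_ring (p P Q : Ideal R) [p.IsPrime] [P.IsPrime] [Q.IsPrime] (hP : P ≤ p) (hQ : Q ≤ p)
    (A : Type u) [CommRing A] [Algebra R A] [IsLocalization.AtPrime A p] [IsRegularLocalRing A]
    (N a b : ℕ) (hN : ringKrullDim A = (N : WithBot ℕ∞))
    (ha : ringKrullDim (A ⧸ P.map (algebraMap R A)) = (a : WithBot ℕ∞))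
    (hb : ringKrullDim (A ⧸ Q.map (algebraMap R A)) = (b : WithBot ℕ∞))
    (hrad : IsLocalRing.maximalIdeal A ≤ (Q.map (algebraMap R A) ⊔ P.map (algebraMap R A)).radical)
    (hab : N ≤ a + b) :
    0 < IntMult.chi A (A ⧸ P.map (algebraMap R A)) (A ⧸ Q.map (algebraMap R A)) := by
  haveI : IsRegularLocalRing (Localization.AtPrime (p.comap (mu k R))) :=
    isRegularLocalRing_of_smooth (k := k) (R ⊗[k] R) _
  obtain ⟨c, D0, l, hc, hl, hm, hw, hof, hok, hd⟩ := exists_diag_regular k R p P Q hP hQ A N a b hN ha hb hrad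
  rw [← chi_eq_diag k R p P Q A (Localization.AtPrime (p.comap (mu k R))), ← hof, KChi.intMult_chi_eq l hw]
  refine KChi.chi_pos_of_eq l hm _ hok (le_antisymm (KChi.supportDim_le_length l hm _ hok) ?_)
  rw [Module.supportDim_quotient_eq_ringKrullDim, hd, hl, Nat.cast_le]
  omega

end Groth.Agent.DiagTor
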