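import Groth.Agent.DiagTor.Chain
import Mathlib

/-!
Tor over `R` as Tor over `R ⊗ R`.
-/

set_option autoImplicit false
set_option linter.style.haveILetI false
set_option backward.isDefEq.respectTransparency false

universe u

open CategoryTheory TensorProduct

namespace Groth.Agent.DiagTor

section Right

variable (k : Type u) [CommRing k] (R S : Type u) [CommRing R] [CommRing S] [Algebra k R] [Algebra k S]
  [Module.Flat k R] [Algebra (R ⊗[k] S) S]

attribute [local instance] Algebra.TensorProduct.rightAlgebra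

theorem subsingleton_tor_right (h : ∀ s : S, algebraMap (R ⊗[k] S) S (1 ⊗ₜ s) = s) (P : Ideal S) (q : ℕ) (hq : 0 < q) :
    Subsingleton (DRing.Tor (R ⊗[k] S) q S
      ((R ⊗[k] S) ⧸ P.map (Algebra.TensorProduct.includeRight : S →ₐ[k] R ⊗[k] S))) := by
  haveI : IsScalarTower S (R ⊗[k] S) S := IsScalarTower.of_algebraMap_eq fun s => (h s).symm
  haveI : Module.Flat S (R ⊗[k] S) := by
    refine Module.Flat.of_linearEquiv (M := S ⊗[k] R) ({ (Algebra.TensorProduct.comm k R S).toLinearEquiv with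
      map_smul' := fun s x => ?_ } : (R ⊗[k] S) ≃ₗ[S] S ⊗[k] R)
    show Algebra.TensorProduct.comm k R S (s • x) = s • Algebra.TensorProduct.comm k R S x
    rw [Algebra.smul_def, Algebra.smul_def, map_mul]
    rfl
  haveI := subsingleton_tor_retract S (R ⊗[k] S) (S ⧸ P) q hq
  let e : ((R ⊗[k] S) ⧸ P.map (algebraMap S (R ⊗[k] S))) ≃ₗ[R ⊗[k] S] (R ⊗[k] S) ⊗[S] (S ⧸ P) :=
    (Algebra.TensorProduct.quotIdealMapEquivTensorQuot (R ⊗[k] S) P).toLinearEquiv
  have eT := ((CategoryTheory.Tor (ModuleCat.{u} (R ⊗[k] S)) q).obj (ModuleCat.of (R ⊗[k] S) S)).mapIso e.toModuleIso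
  exact eT.toLinearEquiv.toEquiv.subsingleton

end Right

variable (k : Type u) [Field k] (R : Type u) [CommRing R] [Algebra k R]

/-- The multiplication map `R ⊗ R → R`. -/
noncomputable def mu : R ⊗[k] R →ₐ[k] R := Algebra.TensorProduct.lmul' k

theorem mu_surjective : Function.Surjective (mu k R) := fun r => ⟨r ⊗ₜ 1, by simp [mu]⟩

/-- `R` as an algebra over `R ⊗ R` along the multiplication. -/
@[implicit_reducible] noncomputable def algDiag : Algebra (R ⊗[k] R) R := (mu k R).toRingHom.toAlgebra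

attribute [local instance] algDiag

theorem algebraMap_diag (x : R ⊗[k] R) : algebraMap (R ⊗[k] R) R x = mu k R x := rfl

theorem tower_left : IsScalarTower R (R ⊗[k] R) R :=
  IsScalarTower.of_algebraMap_eq fun r => by
    show r = mu k R (r ⊗ₜ 1)
    simp [mu]

/-- The ideal `R ⊗ P`. -/
noncomputable def rightIdeal (P : Ideal R) : Ideal (R ⊗[k] R) :=
  P.map (Algebra.TensorProduct.includeRight : R →ₐ[k] R ⊗[k] R)

/-- The ideal `Q ⊗ R`. -/
noncomputable def leftIdeal (Q : Ideal R) : Ideal (R ⊗[k] R) :=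
  Q.map (Algebra.TensorProduct.includeLeft : R →ₐ[k] R ⊗[k] R)

theorem mu_map_right (P : Ideal R) : (rightIdeal k R P).map (algebraMap (R ⊗[k] R) R) = P := by
  show Ideal.map (algebraMap (R ⊗[k] R) R)
    (P.map (Algebra.TensorProduct.includeRight : R →ₐ[k] R ⊗[k] R).toRingHom) = P
  rw [Ideal.map_map]
  have : (algebraMap (R ⊗[k] R) R).comp
      (Algebra.TensorProduct.includeRight : R →ₐ[k] R ⊗[k] R).toRingHom = RingHom.id R := RingHom.ext fun r => by
    show mu k R (1 ⊗ₜ r) = r
    simp [mu]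
  rw [this, Ideal.map_id]

theorem flat_quot (P : Ideal R) : Module.Flat R ((R ⊗[k] R) ⧸ rightIdeal k R P) := by
  let m : R ⊗[k] R →ₐ[R] R ⊗[k] (R ⧸ P) := Algebra.TensorProduct.map (AlgHom.id R R) (Ideal.Quotient.mkₐ k P)
  have hm : Function.Surjective m :=
    Algebra.TensorProduct.map_surjective _ _ (fun r => ⟨r, rfl⟩) Ideal.Quotient.mk_surjective
  have hker : RingHom.ker m = rightIdeal k R P := by
    have h := Algebra.TensorProduct.lTensor_ker (A := R) (Ideal.Quotient.mkₐ k P) Ideal.Quotient.mk_surjective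
    refine Eq.trans ?_ (h.trans ?_)
    · rfl
    · rw [rightIdeal]
      congr 1
      exact Ideal.mk_ker
  exact Module.Flat.of_linearEquiv
    (((Ideal.quotientEquivAlgOfEq R hker).symm.trans (Ideal.quotientKerAlgEquivOfSurjective hm)).toLinearEquiv)

theorem exists_tor_bij (P Q : Ideal R) (n : ℕ) :
    ∃ ψ : DRing.Tor (R ⊗[k] R) n R ((R ⊗[k] R) ⧸ (leftIdeal k R Q ⊔ rightIdeal k R P)) →ₛₗ[algebraMap (R ⊗[k] R) R]
        DRing.Tor R n (R ⧸ P) (R ⧸ Q),
      Function.Bijective ψ := by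
  haveI := tower_left k R
  haveI := flat_quot k R P
  let T := R ⊗[k] R
  let C := T ⧸ rightIdeal k R P
  have hC : ∀ q : ℕ, 0 < q → Subsingleton (DRing.Tor T q R C) := fun q hq =>
    subsingleton_tor_right k R R (fun s => by
      show mu k R (1 ⊗ₜ s) = s
      simp [mu]) P q hq
  let eM : (C ⊗[T] R) ≃ₗ[T] R ⧸ P := (TensorProduct.quotTensorEquivQuotSMul R (rightIdeal k R P)).trans
    ((Submodule.quotEquivOfEq _ _ ((Ideal.smul_top_eq_map _).trans
      (congrArg (Submodule.restrictScalars T) (mu_map_right k R P)))).trans (Submodule.Quotient.restrictScalarsEquiv T P))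
  obtain ⟨ψ, hψ⟩ := exists_tor_diag R T C hC (R ⧸ P) eM.toAddEquiv (fun r x => by
    show eM (algebraMap R C r • x) = r • eM x
    rw [IsScalarTower.algebraMap_apply R T C, algebraMap_smul, map_smul]
    rw [← algebraMap_smul R (algebraMap R T r) (eM x), ← IsScalarTower.algebraMap_apply R T R,
      Algebra.algebraMap_self_apply]) (R ⧸ Q) n
  have hmap : (leftIdeal k R Q).map (Ideal.Quotient.mkₐ T (rightIdeal k R P)) = Q.map (algebraMap R C) := by
    show Ideal.map (Ideal.Quotient.mk (rightIdeal k R P))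
      (Q.map (Algebra.TensorProduct.includeLeft : R →ₐ[k] R ⊗[k] R).toRingHom) = _
    rw [Ideal.map_map]
    rfl
  let e0 : ((R ⊗[k] R) ⧸ (leftIdeal k R Q ⊔ rightIdeal k R P)) ≃ₗ[T] C ⊗[R] (R ⧸ Q) :=
    ((Ideal.quotientEquivAlgOfEq T (sup_comm (leftIdeal k R Q) (rightIdeal k R P))).trans
      ((DoubleQuot.quotQuotEquivQuotSupₐ T (rightIdeal k R P) (leftIdeal k R Q)).symm.trans
        ((Ideal.quotientEquivAlgOfEq T hmap).trans
          ((Algebra.TensorProduct.quotIdealMapEquivTensorQuot C Q).restrictScalars T)))).toLinearEquiv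
  let eW := (((CategoryTheory.Tor (ModuleCat.{u} T) n).obj (ModuleCat.of T R)).mapIso e0.toModuleIso).toLinearEquiv
  exact ⟨ψ.comp eW.toLinearMap, hψ.comp eW.bijective⟩

end Groth.Agent.DiagTor
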